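/-
Small facts about morphisms of schemes.
-/
import Mathlib.AlgebraicGeometry.Morphisms.FinitePresentation
import Mathlib.AlgebraicGeometry.Morphisms.FiniteType
import Mathlib.AlgebraicGeometry.Morphisms.Affine
import Mathlib.AlgebraicGeometry.Morphisms.Separated
import Mathlib.AlgebraicGeometry.Limits
import Mathlib.AlgebraicGeometry.Morphisms.UnderlyingMap
import Mathlib.CategoryTheory.MorphismProperty.Descent

open CategoryTheory Limits AlgebraicGeometry

universe u

namespace Groth.Agent.SchBasic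

theorem locallyOfFinitePresentation_of_comp {X Y Z : Scheme.{u}} (f : X ⟶ Y) (g : Y ⟶ Z)
    [LocallyOfFiniteType g] [hfg : LocallyOfFinitePresentation (f ≫ g)] :
    LocallyOfFinitePresentation f := by
  refine (HasRingHomProperty.iff_exists_appLE (P := @LocallyOfFinitePresentation)
    (RingHom.finitePresentation_stableUnderComposition.stableUnderCompositionWithLocalizationAway
      RingHom.finitePresentation_holdsForLocalizationAway).left).2 fun x => ?_
  obtain ⟨W, hW, hxW, -⟩ := exists_isAffineOpen_mem_and_subset (U := ⊤) (x := g.base (f.base x)) trivial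
  obtain ⟨U, hU, hxU, hUW⟩ := exists_isAffineOpen_mem_and_subset (U := g ⁻¹ᵁ W) (x := f.base x) hxW
  obtain ⟨V, hV, hxV, hVU⟩ := exists_isAffineOpen_mem_and_subset (U := f ⁻¹ᵁ U) (x := x) hxU
  refine ⟨⟨U, hU⟩, ⟨V, hV⟩, hxV, hVU, ?_⟩
  refine RingHom.FinitePresentation.of_comp_finiteType (g.appLE W U (show U ≤ g ⁻¹ᵁ W from hUW)).hom
    (g := (f.appLE U V (show V ≤ f ⁻¹ᵁ U from hVU)).hom) ?_ ?_
  · rw [← CommRingCat.hom_comp, Scheme.Hom.appLE_comp_appLE]
    exact HasRingHomProperty.appLE @LocallyOfFinitePresentation _ hfg ⟨W, hW⟩ ⟨V, hV⟩ _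
  · exact HasRingHomProperty.appLE @LocallyOfFiniteType _ ‹_› ⟨W, hW⟩ ⟨U, hU⟩ _

/-- The inclusion of a summand into a disjoint union is quasi-compact. -/
theorem quasiCompact_coprod_inl (X Y : Scheme.{u}) : QuasiCompact (coprod.inl : X ⟶ X ⨿ Y) := by
  have h : IsClosed (Set.range (coprod.inl : X ⟶ X ⨿ Y).base) := by
    rw [show Set.range (coprod.inl : X ⟶ X ⨿ Y).base = (Set.range (coprod.inr : Y ⟶ X ⨿ Y).base)ᶜ from
      (isCompl_range_inl_inr X Y).eq_compl]
    exact (coprod.inr : Y ⟶ X ⨿ Y).opensRange.2.isClosed_compl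
  refine ⟨fun U hUo hU => ?_⟩
  rw [(coprod.inl : X ⟶ X ⨿ Y).isOpenEmbedding.isInducing.isCompact_iff, Set.image_preimage_eq_inter_range]
  exact hU.inter_right h

theorem quasiCompact_coprod_inr (X Y : Scheme.{u}) : QuasiCompact (coprod.inr : Y ⟶ X ⨿ Y) := by
  have h : IsClosed (Set.range (coprod.inr : Y ⟶ X ⨿ Y).base) := by
    rw [show Set.range (coprod.inr : Y ⟶ X ⨿ Y).base = (Set.range (coprod.inl : X ⟶ X ⨿ Y).base)ᶜ from
      (isCompl_range_inl_inr X Y).symm.eq_compl]
    exact (coprod.inl : X ⟶ X ⨿ Y).opensRange.2.isClosed_compl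
  refine ⟨fun U hUo hU => ?_⟩
  rw [(coprod.inr : Y ⟶ X ⨿ Y).isOpenEmbedding.isInducing.isCompact_iff, Set.image_preimage_eq_inter_range]
  exact hU.inter_right h

/-- Quasi-compactness descends along a surjection. -/
theorem quasiCompact_of_comp_surjective {X Y Z : Scheme.{u}} (f : X ⟶ Y) (g : Y ⟶ Z) [Surjective f]
    [QuasiCompact (f ≫ g)] : QuasiCompact g := by
  refine ⟨fun U hUo hU => ?_⟩
  rw [← Set.image_preimage_eq (g.base ⁻¹' U) f.surjective, ← Set.preimage_comp]
  exact (QuasiCompact.isCompact_preimage (f := f ≫ g) U hUo hU).image f.continuous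

theorem descendsAlong_quasiCompact :
    MorphismProperty.DescendsAlong (@QuasiCompact.{u}) (@Surjective ⊓ @QuasiCompact) where
  of_isPullback {A X Y Z fst snd f g} h hf hfst := by
    have : Surjective f := hf.1
    have : QuasiCompact f := hf.2
    have : QuasiCompact fst := hfst
    have : Surjective snd := MorphismProperty.of_isPullback h (inferInstanceAs (Surjective f))
    have : QuasiCompact (snd ≫ g) := h.w ▸ inferInstanceAs (QuasiCompact (fst ≫ f))
    exact quasiCompact_of_comp_surjective snd g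

end Groth.Agent.SchBasic
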